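import Groth.Agent.Lib.CptBdd19.Main
import Groth.Agent.Lib.ColimCoh.Site
import Groth.Agent.Lib.FCoh7.CoMap
import Groth.Agent.Lib.SheafCoh.ModAcyclic
import Groth.Agent.Lib.SheafCoh.TotallyAcyclic
import Groth.Agent.Lib.SiteDer.ModGen
import Groth.Agent.Lib.QCCoprod25.Mod
import Groth.Agent.Lib.CohDer19.Good
import Groth.Prelude.Def_CohDer

/-! # Free modules on objects with finite coverings are compact for bounded below families -/

set_option autoImplicit false
set_option linter.all false
set_option maxHeartbeats 800000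
set_option backward.isDefEq.respectTransparency false
set_option backward.isDefEq.respectTransparency.types false
universe w u

open CategoryTheory CategoryTheory.Limits Opposite Abelian

noncomputable section

namespace GrothLib.FreeOnCpt25

variable {C : Type u} [SmallCategory C] {J : GrothendieckTopology C} (O : Sheaf J CommRingCat.{u})

/-- The two free modules on an object agree. -/
def freeOnIso (U : C) : ModSite.freeOn O U ≅ (SiteDer.freeMod O).obj U :=
  (Coyoneda.fullyFaithful.preimageIso
    (NatIso.ofComponents (fun G => ((SiteDer.secMod G U).trans (ModFlat.freeOnEquiv O U G).symm).toIso)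
      (fun {G G'} f => by
        ext a
        apply (ModFlat.freeOnEquiv O U G').injective
        change ModFlat.freeOnEquiv O U G' ((ModFlat.freeOnEquiv O U G').symm (SiteDer.secMod G' U (a ≫ f))) =
          ModFlat.freeOnEquiv O U G' ((ModFlat.freeOnEquiv O U G).symm (SiteDer.secMod G U a) ≫ f)
        rw [Equiv.apply_symm_apply, ModFlat.freeOnEquiv_comp, Equiv.apply_symm_apply]
        exact SiteDer.secMod_comp U a f) :
      coyoneda.obj (op ((SiteDer.freeMod O).obj U)) ≅ coyoneda.obj (op (ModSite.freeOn O U)))).unop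

variable [HasExt.{u} (ModSite.Mod O)]

/-- `Ext` out of a free module is cohomology. -/
theorem bijective_coMap_free (U : C) (n : ℕ) (M : ModSite.Mod O) :
    Function.Bijective (FCoh7.coMap (SiteDer.tensShAdj (ModSite.ringSh O)) (SheafCoh.freeY J U) M n) :=
  FCoh7.bijective_coMap _ _ (fun I hI m => by
    have := hI
    exact @Equiv.subsingleton _ _ (SheafCoh.HUext ((SheafOfModules.toSheaf _).obj I) (m + 1) U).symm.toEquiv
      (SheafCoh.subsingleton_HU_of_totallyAcyclic _
        (SheafCoh.isTotallyAcyclic_of_injective_module (ModSite.ringSh O) I) U m)) n M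

/-- `Ext` out of a free module is cohomology, naturally. -/
def extFreeIso (U : C) (p : ℕ) :
    (extFunctor.{u} p).obj (op ((SiteDer.freeMod O).obj U)) ≅
      SheafOfModules.toSheaf (ModSite.ringSh O) ⋙ (Sheaf.cohomologyPresheafFunctor J p).flip.obj (op U) :=
  NatIso.ofComponents
    (fun M => ((AddEquiv.ofBijective _ (bijective_coMap_free O U p M)).trans
      (SheafCoh.HUext ((SheafOfModules.toSheaf _).obj M) p U).symm).toAddCommGrpIso)
    (fun {M N} g => by
      ext x
      apply (SheafCoh.HUext ((SheafOfModules.toSheaf _).obj N) p U).injective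
      refine (AddEquiv.apply_symm_apply _ _).trans ?_
      refine Eq.trans ?_ (SheafCoh.map_eq ((SheafOfModules.toSheaf _).map g) p U _).symm
      refine (FCoh7.coMap_naturality (SiteDer.tensShAdj (ModSite.ringSh O)) (SheafCoh.freeY J U) g p x).trans ?_
      exact congrArg (fun t => Ext.comp t (Ext.mk₀ ((SheafOfModules.toSheaf _).map g)) (add_zero p))
        (AddEquiv.apply_symm_apply _ _).symm)

variable [HasPullbacks C] {B : Set C} {Cov : ∀ (U : C) (ι : Type u), (ι → Over U) → Prop}
    (h1 : ∀ (U : C) (ι : Type u) (Y : ι → Over U), Cov U ι Y → Finite ι ∧ U ∈ B ∧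
      Sieve.ofArrows (fun i => (Y i).left) (fun i => (Y i).hom) ∈ J U ∧
      ∀ (p : ℕ) (a : Fin (p + 1) → ι), (∏ᶜ fun k => Y (a k)).left ∈ B)
    (h2 : ∀ U ∈ B, ∀ T ∈ J U, ∃ (ι : Type u) (Y : ι → Over U), Cov U ι Y ∧ ∀ i, T.arrows (Y i).hom)

include h1 h2 in
theorem preservesColimit_ext {U : C} (hU : U ∈ B) (p : ℕ) {ι : Type u} (H : ι → ModSite.Mod O) :
    PreservesColimit (Discrete.functor H) ((extFunctor.{u} p).obj (op (ModSite.freeOn O U))) := by
  have := SheafCoh.preservesColimitsOfSize_toSheaf.{u} (ModSite.ringSh O)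
  have h₁ : PreservesColimitsOfShape (Finset (Discrete ι))
      ((Sheaf.cohomologyPresheafFunctor J p).flip.obj (op U)) :=
    ⟨fun {K} => ColimCoh.preservesColimit_cohomology h1 h2 K hU p⟩
  have : PreservesColimitsOfShape (Finset (Discrete ι)) (SheafOfModules.toSheaf.{u} (ModSite.ringSh O)) :=
    this.preservesColimitsOfShape
  have : PreservesColimitsOfShape (Finset (Discrete ι))
      (SheafOfModules.toSheaf (ModSite.ringSh O) ⋙ (Sheaf.cohomologyPresheafFunctor J p).flip.obj (op U)) :=
    @comp_preservesColimitsOfShape _ _ _ _ _ _ _ _ _ _ this h₁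
  let e : (extFunctor.{u} p).obj (op (ModSite.freeOn O U)) ≅
      SheafOfModules.toSheaf (ModSite.ringSh O) ⋙ (Sheaf.cohomologyPresheafFunctor J p).flip.obj (op U) :=
    (extFunctor.{u} p).mapIso (freeOnIso O U).op.symm ≪≫ extFreeIso O U p
  have : ((extFunctor.{u} p).obj (op (ModSite.freeOn O U))).Additive :=
    inferInstanceAs (extFunctorObj (ModSite.freeOn O U) p).Additive
  have : PreservesColimitsOfShape (Finset (Discrete ι)) ((extFunctor.{u} p).obj (op (ModSite.freeOn O U))) :=
    preservesColimitsOfShape_of_natIso e.symm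
  have := CohDer19.preservesColimitsOfShape_discrete ((extFunctor.{u} p).obj (op (ModSite.freeOn O U))) (α := ι)
  infer_instance

end GrothLib.FreeOnCpt25
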